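import Groth.Agent.Grass.K652.NearBasis
import Groth.Agent.ExtPow.K875.DetTensor

/-!
# Globally generated bundles with trivial determinant are trivial

`main`: `X` a nonempty scheme whose ring of global functions is a field, `E` finite locally free of rank `r`, generated
by finitely many global sections, with an `r`-th exterior power isomorphic to `O`; then `E ≅ O^r`.
-/

set_option autoImplicit false
universe u

open CategoryTheory CategoryTheory.Limits AlgebraicGeometry Opposite TopologicalSpace

namespace K945.DetTriv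

open Groth.Agent.Sga67.Sec Groth.Agent.Sga67.LocBasis Groth.Agent.Sga67.LocBasisStalk
  K652.BasisCrit K652.NearBasis K875.DetTensor
open Groth.Agent.Sga67.ExtSheaf

variable {X : Scheme.{u}}

/-- The generating sections given by an epimorphism from a free module. -/
theorem exists_isGen_of_epi {E : X.Modules} {N : ℕ} (ψ : FlatMod.freeMod X N ⟶ E) [Epi ψ] :
    IsGen (fun i : Fin N => appS ψ ⊤ (freeBasis X N i)) :=
  (isGen_of_isLocBasis (free_isLocBasis X N)).map ψ

/-- The wedge of global sections over an affine open. -/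
noncomputable def wd {r : ℕ} {E L : X.Modules} (φ : Phi r E L) (c : Fin r → Sec E ⊤) (U : X.affineOpens) :
    Sec L U.1 := (φ U).symm (exteriorPower.ιMulti Γ(X, U.1) r (fun i => res E (le_top : U.1 ≤ ⊤) (c i)))

theorem res_wd {r : ℕ} {E L : X.Modules} (φ : Phi r E L) (hφ : PhiComp φ) (c : Fin r → Sec E ⊤)
    {U V : X.affineOpens} (h : V.1 ≤ U.1) : res L h (wd φ c U) = wd φ c V := by
  unfold wd
  refine (hφ U V h _).trans ?_
  refine congrArg (fun v => (φ V).symm (exteriorPower.ιMulti Γ(X, V.1) r v)) ?_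
  funext i
  exact res_res E _ _ _

/-- The global wedge of global sections. -/
theorem exists_wedge {r : ℕ} {E L : X.Modules} (φ : Phi r E L) (hφ : PhiComp φ) (c : Fin r → Sec E ⊤) :
    ∃ w : Sec L ⊤, ∀ U : X.affineOpens, res L le_top w = wd φ c U := by
  obtain ⟨f, hf⟩ := exists_hom_of_basis' (B := fun U : X.affineOpens => U.1)
    (by
      rw [Subtype.range_coe_subtype]
      exact X.isBasis_affineOpens)
    (Coh.structureModule X) L
    (fun V => { toFun := fun a => toO a • wd φ c V
                map_add' := fun a b => by rw [toO_add, add_smul]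
                map_smul' := fun r a => by rw [toO_smul, mul_smul, RingHom.id_apply] })
    (by
      intro U V h a
      simp only [LinearMap.coe_mk, AddHom.coe_mk]
      rw [res_smul, toO_res, res_wd φ hφ c h])
  refine ⟨appS f ⊤ (one X ⊤), fun U => ?_⟩
  rw [← appS_res, res_one, hf]
  simp only [LinearMap.coe_mk, AddHom.coe_mk]
  rw [toO_one, _root_.one_smul]

/-- On an affine open with a local basis `b`, the family `c` is a basis as soon as its wedge generates `L`. -/
theorem isLocBasis_of_wd {r : ℕ} {E L : X.Modules} (φ : Phi r E L) (hφ : PhiComp φ) (c : Fin r → Sec E ⊤)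
    (U : X.affineOpens) {b : Fin r → Sec E U.1} (hb : IsLocBasis b)
    (h : K875.PowSec.IsGen (wd φ c U)) : IsLocBasis (fun i => res E (le_top : U.1 ≤ ⊤) (c i)) := by
  let β := hb.basis (le_refl U.1)
  have hβ : (β : Fin r → Sec E U.1) = b := by
    funext i
    exact (IsLocBasis.basis_apply _ _ _).trans (res_self E _ _)
  obtain ⟨P, hP⟩ := exists_isMat hb (fun i => res E (le_top : U.1 ≤ ⊤) (c i))
  have hdet : β.det (fun i => res E (le_top : U.1 ≤ ⊤) (c i)) = P.det := by
    rw [Module.Basis.det_apply]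
    congr 1
    ext i j
    rw [Module.Basis.toMatrix_apply]
    have h1 : res E (le_top : U.1 ≤ ⊤) (c j) = ∑ i, P i j • β i := by
      rw [hβ]
      exact hP j
    rw [h1, Module.Basis.repr_sum_self]
  have h2 : wd φ c U = P.det • (φ U).symm (exteriorPower.ιMulti Γ(X, U.1) r β) := by
    unfold wd
    rw [alt_eq_det_smul β, map_smul, hdet]
  have hg := isGen_top φ hφ hb
  rw [← hβ] at hg
  obtain ⟨a, ha⟩ := h.exists_smul ((φ U).symm (exteriorPower.ιMulti Γ(X, U.1) r β))
  refine isLocBasis_of_isUnit_det hb hP ?_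
  have h3 : hg.equiv (a * P.det) = hg.equiv 1 := by
    rw [hg.equiv_apply, hg.equiv_apply, _root_.one_smul, mul_smul, ← h2, ← ha]
  have h4 := hg.equiv.injective h3
  exact IsUnit.of_mul_eq_one_right a h4

/-- A section of `O` which is a unit is a generator. -/
theorem isGen_of_isUnit {U : X.Opens} (s : Sec (Coh.structureModule X) U) (h : IsUnit (toO s)) :
    K875.PowSec.IsGen s := by
  refine K875.PowSec.isGen_of_bijective fun V hV => ?_
  have h1 : IsUnit (toO (res _ hV s)) := by
    rw [toO_res]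
    exact h.map _
  obtain ⟨u, hu⟩ := h1
  constructor
  · intro a b hab
    have h2 : toO (a • res _ hV s) = toO (b • res _ hV s) := congrArg toO hab
    rw [toO_smul, toO_smul, ← hu] at h2
    exact u.isUnit.mul_right_cancel h2
  · intro t
    refine ⟨toO t * (u⁻¹ : Γ(X, V)ˣ), ?_⟩
    change toO _ = toO t
    rw [toO_smul, ← hu, mul_assoc, Units.inv_mul, mul_one]

theorem isUnit_of_isGen {U : X.Opens} (s : Sec (Coh.structureModule X) U) (h : K875.PowSec.IsGen s) :
    IsUnit (toO s) := by
  obtain ⟨a, ha⟩ := h.exists_smul (one X U)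
  have h1 : toO (one X U) = toO (a • s) := congrArg toO ha
  rw [toO_one, toO_smul] at h1
  exact IsUnit.of_mul_eq_one_right a h1.symm

theorem isGen_of_iso {L M : X.Modules} (e : L ≅ M) {U : X.Opens} {s : Sec L U} (h : K875.PowSec.IsGen s) :
    K875.PowSec.IsGen (appS e.hom U s) := h.of_iso e

/-- `main` -/
theorem main [Nonempty X] (hF : IsField Γ(X, ⊤)) {r N : ℕ} {E L : X.Modules}
    (hE : FlatMod.IsFinLocFreeOfRank r E) (ψ : FlatMod.freeMod X N ⟶ E) [Epi ψ]
    (hL : ExtPow.IsExtPow r E L) (e : L ≅ Coh.structureModule X) : Nonempty (E ≅ FlatMod.freeMod X r) := by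
  obtain ⟨φ, hφ⟩ := hL
  let x₀ : X := Classical.arbitrary X
  obtain ⟨V, hV, σ, hxV, -, hσ⟩ := exists_sub_near hE (fun i : Fin N => appS ψ ⊤ (freeBasis X N i))
    (exists_isGen_of_epi ψ) x₀ trivial
  let c : Fin r → Sec E ⊤ := fun i => appS ψ ⊤ (freeBasis X N (σ i))
  obtain ⟨w, hw⟩ := exists_wedge φ hφ c
  obtain ⟨U₀, hU₀, hxU₀, hUV⟩ := Opens.isBasis_iff_nbhd.mp X.isBasis_affineOpens hxV
  let U₀' : X.affineOpens := ⟨U₀, hU₀⟩
  have hb₀ : IsLocBasis (fun i => res E (le_top : U₀ ≤ ⊤) (c i)) := by
    have h1 := hσ.restrict hUV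
    have h2 : (fun i => res E hUV (res E hV (appS ψ ⊤ (freeBasis X N (σ i))))) =
        fun i => res E (le_top : U₀ ≤ ⊤) (c i) := by
      funext i
      exact res_res E _ _ _
    rw [h2] at h1
    exact h1
  have hg₀ : K875.PowSec.IsGen (wd φ c U₀') := isGen_top φ hφ (U := U₀') hb₀
  -- the global function
  let g : Γ(X, ⊤) := toO (appS e.hom ⊤ w)
  have hgU : ∀ U : X.affineOpens, toO (appS e.hom U.1 (wd φ c U)) = resO X le_top g := by
    intro U
    rw [← hw U, appS_res, toO_res]
  have hg0 : g ≠ 0 := by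
    intro h0
    have h1 := isUnit_of_isGen _ (isGen_of_iso e hg₀)
    rw [hgU U₀', h0, map_zero] at h1
    have : Nonempty U₀ := ⟨⟨x₀, hxU₀⟩⟩
    have : Nontrivial Γ(X, U₀) := X.component_nontrivial U₀
    exact not_isUnit_zero h1
  have hgu : IsUnit g := by
    obtain ⟨h, hh⟩ := hF.mul_inv_cancel hg0
    exact IsUnit.of_mul_eq_one h hh
  have hall : IsLocBasis c := by
    refine isLocBasis_of_locally c fun x W hW hxW => ?_
    obtain ⟨W', hW', b, hxW', hb⟩ := exists_locBasis_near hE x hxW
    obtain ⟨U, hU, hxU, hUW⟩ := Opens.isBasis_iff_nbhd.mp X.isBasis_affineOpens hxW'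
    have h1 : K875.PowSec.IsGen (wd φ c ⟨U, hU⟩) := by
      have h2 : K875.PowSec.IsGen (appS e.hom U (wd φ c ⟨U, hU⟩)) := by
        apply isGen_of_isUnit
        rw [hgU ⟨U, hU⟩]
        exact hgu.map _
      have h3 := isGen_of_iso e.symm h2
      simpa using h3
    have h4 := isLocBasis_of_wd φ hφ c ⟨U, hU⟩ (hb.restrict hUW) h1
    refine ⟨U, le_top, hUW.trans hW', hxU, ?_⟩
    have h5 := h4 U le_rfl
    have h6 : (comb c (le_top : U ≤ ⊤) : (Fin r → Γ(X, U)) → Sec E U) =
        comb (fun i => res E (le_top : U ≤ ⊤) (c i)) (le_refl U) := by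
      funext a
      simp [comb_apply]
    rw [h6]
    exact h5
  exact nonempty_iso_free hall

end K945.DetTriv
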