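import Groth.Agent.VBPn.K945.GenPoly
import Groth.Agent.VBPn.K945.DetTriv
import Groth.Agent.CycB.StalkExact
import Groth.Agent.Grass.K652.LfRank

/-!
# Nowhere vanishing sections of globally generated bundles of rank larger than the dimension

* `NZ r s`: near each point the section `s` is a member of a local basis with `r` elements;
* `exists_nz`: `X` integral, of finite type over the infinite field `k`, `E` locally free of rank `r > dim X` generated by
  the sections `s_1, …, s_N`: some combination `∑ v_j s_j` with `v_j ∈ k` satisfies `NZ r`;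
* `NZ.mono`, `NZ.cokernel`: for `NZ (r + 1) s` the morphism `O → E` is a monomorphism with cokernel locally free of
  rank `r`.
-/

set_option autoImplicit false
universe u

open CategoryTheory CategoryTheory.Limits AlgebraicGeometry Opposite TopologicalSpace

namespace K945.GenSec

open Groth.Agent.Sga67.Sec Groth.Agent.Sga67.LocBasis Groth.Agent.Sga67.LocBasisStalk
  K652.BasisCrit K652.NearBasis Groth.Agent.CycB.StalkExact Groth.Agent.Krr.H490.LocBasisPull
open Groth.Agent.Krr.H490.NrmSub2 (isUnit_basicOpen mem_basicOpen_of_isUnit)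

variable {X : Scheme.{u}}

/-- Near each point `s` is a member of a local basis with `r` elements. -/
def NZ {E : X.Modules} (r : ℕ) (s : Sec E ⊤) : Prop :=
  ∀ x : X, ∃ (U : X.Opens) (b : Fin r → Sec E U) (i : Fin r), x ∈ U ∧ IsLocBasis b ∧ b i = res E le_top s

/-- Constants on `U`. -/
noncomputable def cst {k : Type u} [Field k] (f : X ⟶ Spec (CommRingCat.of k)) (U : X.Opens) : k →+* Γ(X, U) :=
  (f.appLE ⊤ U le_top).hom.comp (Scheme.ΓSpecIso (CommRingCat.of k)).inv.hom

theorem resO_cst {k : Type u} [Field k] (f : X ⟶ Spec (CommRingCat.of k)) {U V : X.Opens} (h : V ≤ U) (a : k) :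
    resO X h (cst f U a) = cst f V a := by
  unfold cst resO
  simp only [RingHom.comp_apply]
  have h1 : f.appLE ⊤ U le_top ≫ X.presheaf.map (homOfLE h).op = f.appLE ⊤ V le_top :=
    Scheme.Hom.appLE_map _ _ _
  rw [← h1]
  rfl

theorem finiteType_cst {k : Type u} [Field k] (f : X ⟶ Spec (CommRingCat.of k)) [LocallyOfFiniteType f]
    {U : X.Opens} (hU : IsAffineOpen U) : (cst f U).FiniteType := by
  have h1 : (f.appLE ⊤ U le_top).hom.FiniteType :=
    f.finiteType_appLE (isAffineOpen_top _) hU le_top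
  have h2 : (Scheme.ΓSpecIso (CommRingCat.of k)).inv.hom.FiniteType :=
    RingHom.FiniteType.of_surjective _ (ConcreteCategory.bijective_of_isIso (Scheme.ΓSpecIso (CommRingCat.of k)).inv).2
  exact h1.comp h2

theorem ringKrullDim_le (U : X.Opens) (hU : IsAffineOpen U) : ringKrullDim Γ(X, U) ≤ topologicalKrullDim X := by
  have h1 : ringKrullDim Γ(X, U) = topologicalKrullDim (Spec Γ(X, U)) :=
    (PrimeSpectrum.topologicalKrullDim_eq_ringKrullDim (R := Γ(X, U))).symm
  rw [h1]
  exact hU.fromSpec.isOpenEmbedding.isInducing.topologicalKrullDim_le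

/-- The combination of sections with constant coefficients. -/
noncomputable def lin {k : Type u} [Field k] (f : X ⟶ Spec (CommRingCat.of k)) {E : X.Modules} {N : ℕ}
    (s : Fin N → Sec E ⊤) (v : Fin N → k) : Sec E ⊤ := ∑ j, cst f ⊤ (v j) • s j

theorem exists_poly_near {k : Type u} [Field k] [IsIntegral X] (f : X ⟶ Spec (CommRingCat.of k))
    [LocallyOfFiniteType f] {r N : ℕ} (hdim : topologicalKrullDim X < (r : WithBot ℕ∞)) {E : X.Modules}
    (hE : FlatMod.IsFinLocFreeOfRank r E) (s : Fin N → Sec E ⊤) (hs : IsGen s) (x : X) :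
    ∃ (U : X.Opens) (P : MvPolynomial (Fin N) k), x ∈ U ∧ P ≠ 0 ∧ ∀ v : Fin N → k, MvPolynomial.eval v P ≠ 0 →
      ∀ y ∈ U, ∃ (W : X.Opens) (b : Fin r → Sec E W) (i : Fin r), y ∈ W ∧ IsLocBasis b ∧
        b i = res E le_top (lin f s v) := by
  obtain ⟨V, hV, σ, hxV, hσ, hb⟩ := exists_sub_near hE s hs x trivial
  obtain ⟨U, hU, hxU, hUV⟩ := Opens.isBasis_iff_nbhd.mp X.isBasis_affineOpens hxV
  let b : Fin r → Sec E U := fun j => res E (le_top : U ≤ ⊤) (s (σ j))
  have hbU : IsLocBasis b := by
    have h1 := hb.restrict hUV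
    have h2 : (fun i => res E hUV (res E hV (s (σ i)))) = b := by
      funext i
      exact res_res E _ _ _
    rw [h2] at h1
    exact h1
  obtain ⟨M, hM⟩ := exists_isMat hbU (fun j => res E (le_top : U ≤ ⊤) (s j))
  have hMσ : ∀ i j, M i (σ j) = if i = j then 1 else 0 := by
    have h1 : IsMat b (fun j => res E (le_top : U ≤ ⊤) (s (σ j))) (M.submatrix id σ) := fun j => hM (σ j)
    have h2 : IsMat b (fun j => res E (le_top : U ≤ ⊤) (s (σ j))) (1 : Matrix (Fin r) (Fin r) Γ(X, U)) := by
      intro j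
      rw [Finset.sum_eq_single j]
      · rw [Matrix.one_apply_eq, _root_.one_smul]
      · intro i _ hi
        rw [Matrix.one_apply_ne hi, zero_smul]
      · simp
    have h3 := IsMat.unique hbU h1 h2
    intro i j
    have h4 := congrFun (congrFun h3 i) j
    rw [Matrix.submatrix_apply] at h4
    exact h4.trans (Matrix.one_apply)
  have : Nonempty U := ⟨⟨x, hxU⟩⟩
  let alg : Algebra k Γ(X, U) := (cst f U).toAlgebra
  have hft : Algebra.FiniteType k Γ(X, U) := finiteType_cst f hU
  have htr := GenPoly.trdeg_lt k Γ(X, U) r ((ringKrullDim_le U hU).trans_lt hdim)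
  obtain ⟨P, hP0, hP⟩ := GenPoly.exists_poly k Γ(X, U) htr M σ hσ hMσ
  refine ⟨U, P, hxU, hP0, fun v hv y hy => ?_⟩
  -- the coefficients of `s_v`
  let μ : Fin r → Γ(X, U) := fun i => ∑ j, M i j * cst f U (v j)
  have hμ : res E (le_top : U ≤ ⊤) (lin f s v) = ∑ i, μ i • b i := by
    unfold lin
    rw [map_sum]
    have h1 : ∀ j, res E (le_top : U ≤ ⊤) (cst f ⊤ (v j) • s j) = ∑ i, (M i j * cst f U (v j)) • b i := by
      intro j
      rw [res_smul, resO_cst]
      have h2 : res E (le_top : U ≤ ⊤) (s j) = ∑ i, M i j • b i := hM j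
      rw [h2, Finset.smul_sum]
      refine Finset.sum_congr rfl fun i _ => ?_
      rw [smul_smul, mul_comm]
    simp only [h1]
    rw [Finset.sum_comm]
    refine Finset.sum_congr rfl fun i _ => ?_
    rw [Finset.sum_smul]
  have hex : ∃ i, (X.evaluation U y hy).hom (μ i) ≠ 0 := by
    by_contra hcon
    push Not at hcon
    apply hv
    refine hP (X.residueField y) (X.evaluation U y hy).hom v fun i => ?_
    have h1 := hcon i
    simp only [μ, map_sum, map_mul] at h1
    exact h1
  obtain ⟨i, hi⟩ := hex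
  have hyW : y ∈ X.basicOpen (μ i) := (X.evaluation_ne_zero_iff_mem_basicOpen y hy (μ i)).1 hi
  let W := X.basicOpen (μ i)
  have hWU : W ≤ U := X.basicOpen_le _
  let c : Fin r → Sec E U := Function.update b i (res E (le_top : U ≤ ⊤) (lin f s v))
  let Q : Matrix (Fin r) (Fin r) Γ(X, U) := (1 : Matrix (Fin r) (Fin r) Γ(X, U)).updateCol i μ
  have hQ : IsMat b c Q := by
    intro j
    by_cases hj : j = i
    · subst hj
      simp only [c, Function.update_self, Q, Matrix.updateCol_self]
      exact hμ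
    · simp only [c, Function.update_of_ne hj, Q, Matrix.updateCol_ne hj]
      rw [Finset.sum_eq_single j]
      · rw [Matrix.one_apply_eq, _root_.one_smul]
      · intro i _ hi
        rw [Matrix.one_apply_ne hi, zero_smul]
      · simp
  have hdet : Q.det = μ i := by
    have h1 := Matrix.cramer_apply (1 : Matrix (Fin r) (Fin r) Γ(X, U)) μ i
    rw [Matrix.cramer_one] at h1
    exact h1.symm
  have h5 := isLocBasis_basicOpen hbU hQ
  have hW' : X.basicOpen Q.det = W := by rw [hdet]
  refine ⟨X.basicOpen Q.det, _, i, by rw [hW']; exact hyW, h5, ?_⟩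
  simp only [c, Function.update_self]
  exact res_res E _ _ _

/-- A general section does not vanish anywhere. -/
theorem exists_nz (k : Type u) [Field k] [Infinite k] [IsIntegral X] [CompactSpace X]
    (f : X ⟶ Spec (CommRingCat.of k)) [LocallyOfFiniteType f] {r N : ℕ}
    (hdim : topologicalKrullDim X < (r : WithBot ℕ∞)) {E : X.Modules}
    (hE : FlatMod.IsFinLocFreeOfRank r E) (s : Fin N → Sec E ⊤) (hs : IsGen s) :
    ∃ v : Fin N → k, NZ r (lin f s v) := by
  classical
  choose U P hx hP0 hP using fun x => exists_poly_near f hdim hE s hs x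
  obtain ⟨t, ht⟩ := isCompact_univ.elim_finite_subcover (fun x => (U x : Set X)) (fun x => (U x).isOpen)
    (fun x _ => Set.mem_iUnion.2 ⟨x, hx x⟩)
  have h0 : ∏ x ∈ t, P x ≠ 0 := Finset.prod_ne_zero_iff.2 fun x _ => hP0 x
  obtain ⟨v, hv⟩ := GenPoly.exists_eval_ne_zero k _ h0
  rw [map_prod, Finset.prod_ne_zero_iff] at hv
  refine ⟨v, fun y => ?_⟩
  obtain ⟨x, hxt, hyx⟩ := Set.mem_iUnion₂.1 (ht (Set.mem_univ y))
  exact hP x v (hv x hxt) y hyx

section Coker

variable {E : X.Modules} {r : ℕ} {s : Sec E ⊤}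

theorem NZ.mono (h : NZ r s) : Mono (homUnit E s) := by
  refine mono_of_locally_injective _ fun x U hx => ?_
  obtain ⟨W, b, i, hxW, hb, hi⟩ := h x
  refine ⟨U ⊓ W, inf_le_left, ⟨hx, hxW⟩, fun t ht => ?_⟩
  rw [homUnit_apply] at ht
  have h1 : res E (le_top : U ⊓ W ≤ ⊤) s = res E (inf_le_right : U ⊓ W ≤ W) (b i) := by
    rw [hi, res_res]
  rw [h1] at ht
  have h2 : comb b (inf_le_right : U ⊓ W ≤ W) (Pi.single i (toO t)) = 0 := by
    rw [comb_apply, Finset.sum_eq_single i]
    · rw [Pi.single_eq_same]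
      exact ht
    · intro j _ hj
      rw [Pi.single_eq_of_ne hj, zero_smul]
    · simp
  have h3 := (hb _ (inf_le_right : U ⊓ W ≤ W)).1 (h2.trans (map_zero _).symm)
  have h4 := congrFun h3 i
  rw [Pi.single_eq_same] at h4
  exact h4

theorem NZ.cokernel {s : Sec E ⊤} (h : NZ (r + 1) s) :
    FlatMod.IsFinLocFreeOfRank r (Limits.cokernel (homUnit E s)) := by
  rw [K652.LfRank.iff_locBasis]
  intro x
  obtain ⟨U, b, i, hxU, hb, hi⟩ := h x
  refine ⟨U, hxU, fun j => appS (cokernel.π (homUnit E s)) U (b (i.succAbove j)), ?_⟩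
  have hex : (ShortComplex.mk (homUnit E s) (cokernel.π (homUnit E s)) (cokernel.condition _)).Exact :=
    ShortComplex.exact_cokernel _
  -- the image of `O_x` in `E_x`
  have himg : ∀ (y : X) (hy : y ∈ U) (t : (Coh.structureModule X).presheaf.stalk y),
      ∃ a : X.presheaf.stalk y, stalkLin (homUnit E s) y t = a • ger E y hy (b i) := by
    intro y hy t
    obtain ⟨V, hyV, t', rfl⟩ := exists_ger _ y t
    refine ⟨gerO y hyV (toO t'), ?_⟩
    rw [stalkLin_ger, homUnit_apply, ger_smul, ger_res, hi, ger_res]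
  have himg' : ∀ (y : X) (hy : y ∈ U) (a : X.presheaf.stalk y),
      ∃ t, stalkLin (homUnit E s) y t = a • ger E y hy (b i) := by
    intro y hy a
    obtain ⟨V, hyV, a', ha'⟩ := X.presheaf.exists_germ_eq a
    refine ⟨ger _ y hyV (show Sec (Coh.structureModule X) V from a'), ?_⟩
    rw [stalkLin_ger, homUnit_apply, ger_smul, ger_res, hi, ger_res, ← ha']
    rfl
  refine isLocBasis_of_stalks _ ?_ ?_
  · intro y hy a ha
    have h1 : stalkLin (cokernel.π (homUnit E s)) y (∑ j, a j • ger E y hy (b (i.succAbove j))) = 0 := by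
      rw [map_sum, ← ha]
      refine Finset.sum_congr rfl fun j _ => ?_
      rw [map_smul, stalkLin_ger]
    obtain ⟨t, ht⟩ := ((stalkLin_exact _ hex y) _).1 h1
    obtain ⟨c, hc⟩ := himg y hy t
    let a' : Fin (r + 1) → X.presheaf.stalk y := i.insertNth (-c) a
    have h2 : ∑ k, a' k • ger E y hy (b k) = 0 := by
      rw [Fin.sum_univ_succAbove _ i]
      simp only [a', Fin.insertNth_apply_same, Fin.insertNth_apply_succAbove]
      rw [← ht]
      change -c • _ + stalkLin (homUnit E s) y t = 0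
      rw [hc, neg_smul, neg_add_cancel]
    have h3 := ger_injective hb y hy a' h2
    intro j
    have h4 := h3 (i.succAbove j)
    simpa [a'] using h4
  · intro y hy t
    obtain ⟨t', rfl⟩ := stalkLin_surjective (cokernel.π (homUnit E s)) y t
    obtain ⟨a, rfl⟩ := ger_surjective hb y hy t'
    refine ⟨fun j => a (i.succAbove j), ?_⟩
    rw [Fin.sum_univ_succAbove _ i, map_add, map_sum]
    obtain ⟨t₀, ht₀⟩ := himg' y hy (a i)
    have h1 : stalkLin (cokernel.π (homUnit E s)) y (a i • ger E y hy (b i)) = 0 := by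
      rw [← ht₀]
      exact ((stalkLin_exact _ hex y) _).2 ⟨t₀, rfl⟩
    rw [h1, zero_add]
    refine Finset.sum_congr rfl fun j _ => ?_
    rw [map_smul, stalkLin_ger]

end Coker

end K945.GenSec
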