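import Groth.Agent.VBPn.K945.GenSec
import Groth.Agent.Dcoh.FinLocFree

/-!
# Trivial subbundles of globally generated bundles

`exists_sub`: `X` integral of finite type over an infinite field, `dim X ≤ n`; a bundle of rank `n + m` which is a
quotient of `O^N` contains a trivial bundle of rank `m` with quotient locally free of rank `n`.
-/

set_option autoImplicit false
universe u

open CategoryTheory CategoryTheory.Limits AlgebraicGeometry Opposite TopologicalSpace

namespace K945.SubBun

open Groth.Agent.Sga67.Sec Groth.Agent.Sga67.LocBasis K652.BasisCrit K945.GenSec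

section Abelian

variable {C : Type*} [Category C] [Abelian C] {A E F : C} (s : A ⟶ E) (g : F ⟶ E)

theorem mono_desc [Mono s] [Mono (g ≫ cokernel.π s)] : Mono (biprod.desc s g) := by
  refine Preadditive.mono_of_cancel_zero _ fun {T} t ht => ?_
  have h1 : t = biprod.lift (t ≫ biprod.fst) (t ≫ biprod.snd) := by
    ext <;> simp
  rw [h1, biprod.lift_desc] at ht
  have h2 : (t ≫ biprod.snd) ≫ (g ≫ cokernel.π s) = 0 := by
    have h3 := congrArg (· ≫ cokernel.π s) ht
    simp only [Preadditive.add_comp, Category.assoc, cokernel.condition, comp_zero, zero_add, zero_comp] at h3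
    simpa using h3
  have h4 : t ≫ biprod.snd = 0 := by
    rw [← cancel_mono (g ≫ cokernel.π s), h2, zero_comp]
  rw [h4, zero_comp, add_zero] at ht
  have h5 : t ≫ biprod.fst = 0 := by
    rw [← cancel_mono s, ht, zero_comp]
  rw [h1, h4, h5]
  ext <;> simp

/-- `coker (s, g) ≅ coker (g : F → coker s)` -/
noncomputable def cokerIso : cokernel (biprod.desc s g) ≅ cokernel (g ≫ cokernel.π s) where
  hom := cokernel.desc _ (cokernel.π s ≫ cokernel.π (g ≫ cokernel.π s)) (by
    ext
    · simp
    · have := cokernel.condition (g ≫ cokernel.π s)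
      rw [Category.assoc] at this
      simp only [biprod.inr_desc_assoc, comp_zero]
      exact this)
  inv := cokernel.desc _ (cokernel.desc s (cokernel.π (biprod.desc s g)) (by
      have h := cokernel.condition (biprod.desc s g)
      have h1 : biprod.inl ≫ biprod.desc s g ≫ cokernel.π (biprod.desc s g) = 0 := by rw [h, comp_zero]
      rwa [biprod.inl_desc_assoc] at h1)) (by
    have h := cokernel.condition (biprod.desc s g)
    have h1 : biprod.inr ≫ biprod.desc s g ≫ cokernel.π (biprod.desc s g) = 0 := by rw [h, comp_zero]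
    rw [biprod.inr_desc_assoc] at h1
    rw [Category.assoc, cokernel.π_desc, h1])
  hom_inv_id := by
    ext
    simp
  inv_hom_id := by
    ext
    simp

end Abelian

variable {X : Scheme.{u}}

theorem lin_appS {k : Type u} [Field k] (f : X ⟶ Spec (CommRingCat.of k)) {E F : X.Modules} {N : ℕ}
    (ψ : F ⟶ E) (s : Fin N → Sec F ⊤) (v : Fin N → k) :
    lin f (fun i => appS ψ ⊤ (s i)) v = appS ψ ⊤ (lin f s v) := by
  unfold lin
  rw [map_sum]
  exact Finset.sum_congr rfl fun i _ => (map_smul _ _ _).symm

theorem homUnit_comp {E F : X.Modules} (ψ : F ⟶ E) (w : Sec F ⊤) :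
    homUnit F w ≫ ψ = homUnit E (appS ψ ⊤ w) := by
  refine hom_ext fun U t => ?_
  rw [appS_comp, homUnit_apply, homUnit_apply, map_smul, appS_res]

theorem nonempty_succ (X : Scheme.{u}) (m : ℕ) :
    Nonempty (FlatMod.freeMod X (m + 1) ≅ Coh.structureModule X ⊞ FlatMod.freeMod X m) := by
  obtain ⟨e⟩ := Groth.Agent.Dcoh.FinLocFree.nonempty_biprod_freeMod_iso X 1 m
  have e1 : FlatMod.freeMod X 1 ≅ Coh.structureModule X :=
    { hom := Sigma.desc fun _ => 𝟙 _
      inv := Sigma.ι (fun _ : Fin 1 => Coh.structureModule X) 0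
      hom_inv_id := by
        refine Sigma.hom_ext _ _ fun b => ?_
        obtain rfl : b = 0 := Subsingleton.elim _ _
        simp
      inv_hom_id := by simp }
  rw [add_comm 1 m] at e
  exact ⟨e.symm ≪≫ biprod.mapIso e1 (Iso.refl _)⟩

/-- Trivial subbundles. -/
theorem exists_sub (k : Type u) [Field k] [Infinite k] [IsIntegral X] [CompactSpace X]
    (f : X ⟶ Spec (CommRingCat.of k)) [LocallyOfFiniteType f] {n : ℕ}
    (hdim : topologicalKrullDim X ≤ (n : WithBot ℕ∞)) : ∀ (m : ℕ) {E : X.Modules}
    (_ : FlatMod.IsFinLocFreeOfRank (n + m) E) {N : ℕ} (ψ : FlatMod.freeMod X N ⟶ E) (_ : Epi ψ),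
    ∃ φ : FlatMod.freeMod X m ⟶ FlatMod.freeMod X N, Mono (φ ≫ ψ) ∧
      FlatMod.IsFinLocFreeOfRank n (cokernel (φ ≫ ψ)) := by
  intro m
  induction m with
  | zero =>
    intro E hE N ψ _
    have hz : IsZero (FlatMod.freeMod X 0) := Groth.Agent.Dcoh.FinLocFree.isZero_freeMod_zero X
    refine ⟨0, ?_, ?_⟩
    · rw [zero_comp]
      exact hz.mono _
    · rw [zero_comp]
      exact K652.LfRank.of_iso (cokernelZeroIsoTarget (X := FlatMod.freeMod X 0) (Y := E)).symm hE
  | succ m ih =>
    intro E hE N ψ _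
    have hd : topologicalKrullDim X < ((n + m + 1 : ℕ) : WithBot ℕ∞) := by
      refine lt_of_le_of_lt hdim ?_
      have : n < n + m + 1 := by omega
      exact_mod_cast this
    have hs := K945.DetTriv.exists_isGen_of_epi ψ
    obtain ⟨v, hv⟩ := exists_nz k f (r := n + m + 1) hd hE _ hs
    rw [lin_appS] at hv
    have hmono := hv.mono
    have hcok := NZ.cokernel (r := n + m) hv
    rw [← homUnit_comp] at hmono hcok
    obtain ⟨φ', h1, h2⟩ := ih hcok (ψ ≫ cokernel.π (homUnit (FlatMod.freeMod X N) (lin f (freeBasis X N) v) ≫ ψ))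
      inferInstance
    obtain ⟨e⟩ := nonempty_succ X m
    rw [← Category.assoc] at h1 h2
    refine ⟨e.hom ≫ biprod.desc (homUnit (FlatMod.freeMod X N) (lin f (freeBasis X N) v)) φ', ?_, ?_⟩
    · have h3 : biprod.desc (homUnit (FlatMod.freeMod X N) (lin f (freeBasis X N) v)) φ' ≫ ψ =
          biprod.desc (homUnit (FlatMod.freeMod X N) (lin f (freeBasis X N) v) ≫ ψ) (φ' ≫ ψ) := by
        apply biprod.hom_ext'
        · rw [biprod.inl_desc_assoc, biprod.inl_desc]
        · rw [biprod.inr_desc_assoc, biprod.inr_desc]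
      rw [Category.assoc, h3]
      have := mono_desc (homUnit (FlatMod.freeMod X N) (lin f (freeBasis X N) v) ≫ ψ) (φ' ≫ ψ)
      infer_instance
    · have h3 : biprod.desc (homUnit (FlatMod.freeMod X N) (lin f (freeBasis X N) v)) φ' ≫ ψ =
          biprod.desc (homUnit (FlatMod.freeMod X N) (lin f (freeBasis X N) v) ≫ ψ) (φ' ≫ ψ) := by
        apply biprod.hom_ext'
        · rw [biprod.inl_desc_assoc, biprod.inl_desc]
        · rw [biprod.inr_desc_assoc, biprod.inr_desc]
      rw [Category.assoc, h3]
      refine K652.LfRank.of_iso ?_ h2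
      exact (cokerIso _ _).symm ≪≫ (cokernelEpiComp e.hom _).symm

end K945.SubBun
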