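import Groth.Agent.RegImm.K560.Stalk
import Groth.Agent.Sga2.PnStalkDim
import Groth.Agent.VBPn.K699.TwHom
import Mathlib.AlgebraicGeometry.Morphisms.QuasiFinite
import Mathlib.RingTheory.KrullDimension.Regular

/-!
# A complete intersection of codimension `d < n` in `P^n` meets every hypersurface

* `isEmpty_of_le`: if `i : Y ⟶ P^n` is a regular closed immersion of codimension `d < n` with image in `D_+(a)`,
  `deg a > 0`, then `Y` is empty.
-/

set_option autoImplicit false
universe u

open CategoryTheory CategoryTheory.Limits AlgebraicGeometry Opposite TopologicalSpace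

namespace K945.AffPn

variable {k : Type u} [Field k] {n : ℕ}

/-- The local rings of a finite scheme over a field have dimension zero. -/
theorem ringKrullDim_stalk_le {Y : Scheme.{u}} (f : Y ⟶ Spec (CommRingCat.of k)) [IsFinite f] (y : Y) :
    ringKrullDim (Y.presheaf.stalk y) ≤ 0 := by
  have h1 : IsLocallyArtinian Y := IsLocallyArtinian.of_locallyQuasiFinite f
  have h2 : IsAffine Y := isAffine_of_isAffineHom f
  have hU := isAffineOpen_top Y
  have h3 : IsArtinianRing Γ(Y, ⊤) := inferInstance
  let _ : Algebra Γ(Y, ⊤) (Y.presheaf.stalk y) :=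
    TopCat.Presheaf.algebra_section_stalk Y.presheaf (⟨y, trivial⟩ : (⊤ : Y.Opens))
  have h4 : IsLocalization.AtPrime (Y.presheaf.stalk y) (hU.primeIdealOf ⟨y, trivial⟩).asIdeal :=
    hU.isLocalization_stalk ⟨y, trivial⟩
  rw [IsLocalization.AtPrime.ringKrullDim_eq_height (hU.primeIdealOf ⟨y, trivial⟩).asIdeal]
  have h5 := Ideal.height_le_ringKrullDim_of_ne_top (I := (hU.primeIdealOf ⟨y, trivial⟩).asIdeal)
    (hU.primeIdealOf ⟨y, trivial⟩).isPrime.ne_top
  refine h5.trans ?_
  have h6 : Ring.KrullDimLE 0 Γ(Y, ⊤) := inferInstance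
  exact Ring.krullDimLE_iff.mp h6

/-- The dimension of the quotient by the ideal generated by a list. -/
theorem ringKrullDim_le_list {R : Type*} [CommRing R] [IsLocalRing R] [IsNoetherianRing R] (rs : List R)
    (h : Ideal.ofList rs ≠ ⊤) : ringKrullDim R ≤ ringKrullDim (R ⧸ Ideal.ofList rs) + rs.length := by
  classical
  have h0 : ((rs.toFinset : Finset R) : Set R) ⊆ IsLocalRing.maximalIdeal R := by
    intro x hx
    refine IsLocalRing.le_maximalIdeal h ?_
    exact Ideal.subset_span (by simpa using hx)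
  have h1 := ringKrullDim_le_ringKrullDim_add_card h0
  have h2 : Ideal.span ((rs.toFinset : Finset R) : Set R) = Ideal.ofList rs := by
    rw [List.coe_toFinset]
  rw [h2] at h1
  refine h1.trans (add_le_add le_rfl ?_)
  exact_mod_cast rs.toFinset_card_le

/-- A closed subscheme of `P^n` contained in the complement of a hypersurface is finite. -/
theorem isFinite_of_le {Y : Scheme.{u}} (i : Y ⟶ CohB1.ProjSpace n k) [IsClosedImmersion i] {d : ℕ} (hd : 0 < d)
    (a : CohB1.polyGrading n k d) (h : ∀ y : Y, i y ∈ Proj.basicOpen (CohB1.polyGrading n k) a.1) :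
    IsFinite (i ≫ CohB1.ProjSpace.toSpec n k) := by
  let U : (CohB1.ProjSpace n k).Opens := Proj.basicOpen (CohB1.polyGrading n k) a.1
  have h1 : IsAffineOpen U := Proj.isAffineOpen_basicOpen (CohB1.polyGrading n k) a.1 a.2 hd
  have h2 : i ⁻¹ᵁ U = ⊤ := by
    rw [eq_top_iff]
    intro y _
    exact h y
  have h3 : IsAffineOpen (⊤ : Y.Opens) := by
    rw [← h2]
    exact h1.preimage i
  have h4 : IsAffine Y := by
    have h : IsAffine ((⊤ : Y.Opens) : Scheme.{u}) := h3
    exact IsAffine.of_isIso Y.topIso.inv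
  have h5 : IsProper (CohB1.ProjSpace.toSpec n k) := inferInstance
  have h6 : IsProper (i ≫ CohB1.ProjSpace.toSpec n k) := inferInstance
  have h7 : IsAffineHom (i ≫ CohB1.ProjSpace.toSpec n k) := inferInstance
  exact (IsFinite.iff_isProper_and_isAffineHom).mpr ⟨h6, h7⟩

theorem isEmpty_of_le {Y : Scheme.{u}} (i : Y ⟶ CohB1.ProjSpace n k) [IsClosedImmersion i] {c : ℕ} (hc : c < n)
    (hi : RegImm.IsRegularImmersionOfCodim RegImm.Kind.regular c i) {d : ℕ} (hd : 0 < d)
    (a : CohB1.polyGrading n k d) (h : ∀ y : Y, i y ∈ Proj.basicOpen (CohB1.polyGrading n k) a.1) : IsEmpty Y := by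
  constructor
  intro y
  have hfin := isFinite_of_le i hd a h
  have h0 := ringKrullDim_stalk_le (i ≫ CohB1.ProjSpace.toSpec n k) y
  obtain ⟨rs, hlen, hreg, hker⟩ := K560.Stalk.exists_isRegular_ker_stalkMap_of_codim i y c hi
  have hclosed : IsClosed ({i y} : Set (CohB1.ProjSpace n k)) := by
    have : IsLocallyArtinian Y := IsLocallyArtinian.of_locallyQuasiFinite (i ≫ CohB1.ProjSpace.toSpec n k)
    have h9 := i.isClosedEmbedding.isClosedMap {y} (isClosed_discrete _)
    rwa [Set.image_singleton] at h9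
  have h1 := Groth.Agent.Sga2.PnStalkDim.ringKrullDim_stalk k n (i y) hclosed
  have : IsNoetherianRing ((CohB1.ProjSpace n k).presheaf.stalk (i y)) := inferInstance
  have h2 := ringKrullDim_le_list rs (by rw [← hker]; exact RingHom.ker_ne_top _)
  have h3 : Function.Surjective (i.stalkMap y).hom := i.stalkMap_surjective y
  have h4 : ringKrullDim ((CohB1.ProjSpace n k).presheaf.stalk (i y) ⧸ Ideal.ofList rs) ≤ 0 := by
    rw [← hker]
    exact (ringKrullDim_eq_of_ringEquiv (RingHom.quotientKerEquivOfSurjective h3)).trans_le h0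
  rw [h1, hlen] at h2
  have h5 : ((n : ℕ) : WithBot ℕ∞) ≤ 0 + c := h2.trans (add_le_add h4 le_rfl)
  rw [zero_add] at h5
  have h6 : n ≤ c := by exact_mod_cast h5
  omega

end K945.AffPn
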