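import Groth.Agent.VBPn.K945.DetMap
import Groth.Agent.VBPn.K699.LinForm
import Groth.Agent.VBPn.K697.NegVan
import Groth.Agent.S10960
import Groth.Agent.S0844

/-!
# Morphisms of line bundles on `P^n`

* `main`: a morphism of invertible modules on `P^n_k`, `n ≥ 1`, is an isomorphism or there is a form `a` of positive degree
  such that all points near which a generator is mapped to a generator lie in `D_+(a)`.
-/

set_option autoImplicit false
universe u

open CategoryTheory CategoryTheory.Limits AlgebraicGeometry Opposite TopologicalSpace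

namespace K945.PnLine

open Groth.Agent Groth.Agent.Divis.ProjPic Groth.Agent.VarietyB.TwistMul K699.TwHom Groth.Agent.Sga67.Sec
open K699.GMat Groth.Agent.PerfB.TwistDer

variable {k : Type u} [Field k] {n : ℕ}

/-- `Hom(O(a), O(b)) = 0` for `b < a`. -/
theorem hom_eq_zero (hn : 1 ≤ n) {a b : ℤ} (h : b < a)
    (f : Twist.twistProjSpace n k a ⟶ Twist.twistProjSpace n k b) : f = 0 := by
  refine K697.NegVan.hom_eq_zero a ?_ f
  have h1 : Subsingleton (Coh.HH (CohB1.ProjSpace n k) (Twist.twistProjSpace n k (b + -a)) 0) :=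
    Groth.Agent.S0844.result k n _ 0 (by omega) (by omega)
  exact Groth.Agent.Fga.HShift.subsingleton_of_iso (twMul n k b (-a) _ rfl).symm 0 h1

/-- If multiplication by `a` maps `s` to a generator then `a` does not vanish. -/
theorem notMem_of_gen {m m' : ℤ} {d : ℕ} (h : m + d = m') (a : gr n k d) {U : (CohB1.ProjSpace n k).Opens}
    (s : Sec (Twist.twistProjSpace n k m) U)
    (hs : K875.PowSec.IsGen (appS (M := Twist.twistProjSpace n k m) (N := Twist.twistProjSpace n k m') (mulMap a h) U s))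
    (x : ProjectiveSpectrum (gr n k)) (hx : x ∈ U) : a.1 ∉ x.asHomogeneousIdeal := by
  intro hc
  obtain ⟨f, W, hxW, hW⟩ := Ega3B.ProjFrame.coveredByOne n k x
  let V : (CohB1.ProjSpace n k).Opens := U ⊓ W
  have hxV : x ∈ V := ⟨hx, hxW⟩
  let t : Sec (Twist.twistProjSpace n k m') V :=
    Ega2.TwistInv.powSec f m' V (fun y hy => hW y hy.2)
  obtain ⟨c, hc'⟩ := (K875.PowSec.IsGen.restrict hs (inf_le_left : V ≤ U)).exists_smul t
  have h1 : IsUnit (evT t x hxV) :=
    Ega2.TwistBasic.isUnit_mk x _ _ (Ega2.TwistInv.powOne_notMem (hW x hxW) _) (Ega2.TwistInv.powOne_notMem (hW x hxW) _)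
  have h2 : evT t x hxV = ev c x hxV * (al x a.1 * evT s x hx) := by
    rw [hc']
    exact evT_smul c _ x hxV
  rw [h2] at h1
  have h3 : al x a.1 ∈ IsLocalRing.maximalIdeal (Twist.Loc (gr n k) x) :=
    (IsLocalization.AtPrime.to_map_mem_maximal_iff (Twist.Loc (gr n k) x) x.asHomogeneousIdeal.toIdeal a.1).mpr hc
  exact (IsLocalRing.mem_maximalIdeal _).mp (Ideal.mul_mem_left _ _ (Ideal.mul_mem_right _ _ h3)) h1

theorem isIso_of_cst {m m' : ℤ} (h : m + (0 : ℕ) = m') {c : k} (hc : c ≠ 0) :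
    IsIso (mulMap (𝒜 := gr n k) (cst c) h) := by
  have hu : IsUnit (cst (n := n) c).1 := by
    rw [cst_val]
    exact (IsUnit.mk0 c hc).map _
  have h1 : Proj.basicOpen (gr n k) (cst (n := n) c).1 = ⊤ := by
    rw [eq_top_iff]
    intro x _ hx
    exact x.isPrime.ne_top (Ideal.eq_top_of_isUnit_mem _ hx hu)
  refine Groth.Agent.Ega1.ExtendAff.isIso_of_basis _ (B := fun U : ULift.{u} (Proj (gr n k)).Opens => U.down)
    ?_ fun U => mulMap_app_bijective (cst c) h U.down (by rw [h1]; exact le_top)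
  rw [Opens.isBasis_iff_nbhd]
  intro U x hx
  exact ⟨U, ⟨⟨U⟩, rfl⟩, hx, le_rfl⟩

theorem not_isGen_zero {X : Scheme.{u}} {L : X.Modules} {U : X.Opens} {x : X} (hx : x ∈ U)
    (h : K875.PowSec.IsGen (0 : Sec L U)) : False := by
  have h1 : h.equiv 1 = h.equiv 0 := by
    rw [h.equiv_apply, h.equiv_apply, smul_zero, smul_zero]
  have h2 := h.equiv.injective h1
  have : Nonempty U := ⟨⟨x, hx⟩⟩
  have : Nontrivial Γ(X, U) := X.component_nontrivial U
  exact one_ne_zero h2

/-- A morphism `O(m) ⟶ O(m')`. -/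
theorem aux (hn : 1 ≤ n) {m m' : ℤ} (γ : Twist.twistProjSpace n k m ⟶ Twist.twistProjSpace n k m') :
    IsIso γ ∨ ∃ (d : ℕ) (a : gr n k d), 0 < d ∧ ∀ x : CohB1.ProjSpace n k,
      (∃ (U : (CohB1.ProjSpace n k).Opens) (s : Sec (Twist.twistProjSpace n k m) U), x ∈ U ∧
        K875.PowSec.IsGen (appS γ U s)) → x ∈ Proj.basicOpen (gr n k) a.1 := by
  by_cases h0 : γ = 0
  · right
    refine ⟨1, 0, one_pos, fun x ⟨U, s, hx, hs⟩ => ?_⟩
    exfalso
    have h1 : appS γ U s = 0 := by rw [h0]; rfl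
    rw [h1] at hs
    exact not_isGen_zero hx hs
  · have hmm : m ≤ m' := by
      by_contra hlt
      exact h0 (hom_eq_zero hn (by omega) γ)
    obtain ⟨d, hd⟩ := Int.eq_ofNat_of_zero_le (sub_nonneg.mpr hmm)
    have hd' : m + d = m' := by omega
    obtain ⟨a, rfl⟩ := exists_mulMap hd' γ
    rcases Nat.eq_zero_or_pos d with rfl | hpos
    · left
      obtain ⟨c, rfl⟩ := exists_cst a
      apply isIso_of_cst
      rintro rfl
      apply h0
      refine hom_ext_apply _ _ fun U s => evT_ext fun x hx => ?_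
      refine (evT_mulMap _ _ s x hx).trans ?_
      rw [cst_val, map_zero, map_zero, zero_mul]
      exact (evT_zero x hx).symm
    · right
      exact ⟨d, a, hpos, fun x ⟨U, s, hx, hs⟩ => notMem_of_gen hd' a s hs x hx⟩

/-- `main` -/
theorem main (hn : 1 ≤ n) {L M : (CohB1.ProjSpace n k).Modules} (hL : PicF.IsInvertible L)
    (hM : PicF.IsInvertible M) (γ : L ⟶ M) :
    IsIso γ ∨ ∃ (d : ℕ) (a : gr n k d), 0 < d ∧ ∀ x : CohB1.ProjSpace n k,
      (∃ (U : (CohB1.ProjSpace n k).Opens) (s : Sec L U), x ∈ U ∧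
        K875.PowSec.IsGen (appS γ U s)) → x ∈ Proj.basicOpen (gr n k) a.1 := by
  obtain ⟨m, ⟨e⟩, -⟩ := Groth.Agent.S10960.result k n hn L hL
  obtain ⟨m', ⟨e'⟩, -⟩ := Groth.Agent.S10960.result k n hn M hM
  rcases aux hn (e.inv ≫ γ ≫ e'.hom) with h | ⟨d, a, hd, h⟩
  · left
    have h1 : γ = e.hom ≫ (e.inv ≫ γ ≫ e'.hom) ≫ e'.inv := by simp
    rw [h1]
    infer_instance
  · refine Or.inr ⟨d, a, hd, fun x ⟨U, s, hx, hs⟩ => h x ⟨U, appS e.hom U s, hx, ?_⟩⟩
    have h2 : appS (e.inv ≫ γ ≫ e'.hom) U (appS e.hom U s) = appS e'.hom U (appS γ U s) := by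
      have h3 : appS (e.hom ≫ e.inv ≫ γ ≫ e'.hom) U s = appS (γ ≫ e'.hom) U s := by simp
      exact h3
    rw [h2]
    exact hs.of_iso e'

end K945.PnLine
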