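import Groth.Agent.Grass.K652.NearBasis
import Groth.Agent.ExtPow.K875.DetTensor
import Groth.Agent.Ega1.ExtendAff
import Groth.Agent.ASBun.K792.TautPull
import Groth.Agent.Krr.H478.EpiIso

/-!
# The determinant of a morphism of bundles of the same rank

* `isLocBasis_of_gen`, `isGen_of_basis`: for `Ψ : F ⟶ E` between modules locally free of rank `r` with determinant
  `γ : LF ⟶ LE`, local bases go to local bases iff generators go to generators;
* `isIso_of_det`: if `γ` is an isomorphism, so is `Ψ`;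
* `exists_gen_of_pull`: if `i^*Ψ` is an isomorphism, then `γ` maps a generator near `i y` to a generator.
-/

set_option autoImplicit false
universe u

open CategoryTheory CategoryTheory.Limits AlgebraicGeometry Opposite TopologicalSpace

namespace K945.DetMap

open Groth.Agent.Sga67.Sec Groth.Agent.Sga67.LocBasis Groth.Agent.Sga67.LocBasisStalk
  K652.BasisCrit K652.NearBasis K875.DetTensor Groth.Agent.Krr.H490.LocBasisPull
open Groth.Agent.Sga67.ExtSheaf

variable {X : Scheme.{u}}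

/-- The wedge of sections over an affine open. -/
noncomputable def wed {r : ℕ} {E L : X.Modules} (φ : Phi r E L) (U : X.affineOpens) (c : Fin r → Sec E U.1) :
    Sec L U.1 := (φ U).symm (exteriorPower.ιMulti Γ(X, U.1) r c)

/-- A family of `r` sections whose wedge generates is a local basis. -/
theorem isLocBasis_of_wed {r : ℕ} {E L : X.Modules} (φ : Phi r E L) (hφ : PhiComp φ) (U : X.affineOpens)
    {b : Fin r → Sec E U.1} (hb : IsLocBasis b) (c : Fin r → Sec E U.1)
    (h : K875.PowSec.IsGen (wed φ U c)) : IsLocBasis c := by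
  let β := hb.basis (le_refl U.1)
  have hβ : (β : Fin r → Sec E U.1) = b := by
    funext i
    exact (IsLocBasis.basis_apply _ _ _).trans (res_self E _ _)
  obtain ⟨P, hP⟩ := exists_isMat hb c
  have hdet : β.det c = P.det := by
    rw [Module.Basis.det_apply]
    congr 1
    ext i j
    rw [Module.Basis.toMatrix_apply]
    have h1 : c j = ∑ i, P i j • β i := by
      rw [hβ]
      exact hP j
    rw [h1, Module.Basis.repr_sum_self]
  have h2 : wed φ U c = P.det • (φ U).symm (exteriorPower.ιMulti Γ(X, U.1) r β) := by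
    unfold wed
    rw [alt_eq_det_smul β, map_smul, hdet]
  have hg := isGen_top φ hφ hb
  rw [← hβ] at hg
  obtain ⟨a, ha⟩ := h.exists_smul ((φ U).symm (exteriorPower.ιMulti Γ(X, U.1) r β))
  refine isLocBasis_of_isUnit_det hb hP ?_
  have h3 : hg.equiv (a * P.det) = hg.equiv 1 := by
    rw [hg.equiv_apply, hg.equiv_apply, _root_.one_smul, mul_smul, ← h2, ← ha]
  have h4 := hg.equiv.injective h3
  exact IsUnit.of_mul_eq_one_right a h4

/-- `Ψ` maps the members of some local bases around every point to local bases: then `Ψ` is an isomorphism. -/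
theorem isIso_of_locBases {κ : Type} [Fintype κ] {F E : X.Modules} (Ψ : F ⟶ E)
    (h : ∀ x : X, ∃ (U : X.Opens) (b : κ → Sec F U), x ∈ U ∧ IsLocBasis b ∧
      IsLocBasis (fun j => appS Ψ U (b j))) : IsIso Ψ := by
  let B : {U : X.Opens // Function.Bijective (Ψ.app U)} → X.Opens := Subtype.val
  refine Groth.Agent.Ega1.ExtendAff.isIso_of_basis Ψ (B := B) ?_ fun i => i.2
  rw [Opens.isBasis_iff_nbhd]
  intro W x hx
  obtain ⟨U, b, hxU, hb, hb'⟩ := h x
  refine ⟨U ⊓ W, ⟨⟨U ⊓ W, ?_⟩, rfl⟩, ⟨hxU, hx⟩, inf_le_right⟩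
  have h1 := hb (U ⊓ W) inf_le_left
  have h2 := hb' (U ⊓ W) inf_le_left
  have h3 : (comb (fun j => appS Ψ U (b j)) (inf_le_left : U ⊓ W ≤ U) : (κ → Γ(X, U ⊓ W)) → Sec E (U ⊓ W)) =
      appS Ψ (U ⊓ W) ∘ comb b (inf_le_left : U ⊓ W ≤ U) := by
    funext a
    simp only [Function.comp_apply, comb_apply, map_sum, map_smul, appS_res]
  rw [h3] at h2
  exact (Function.Bijective.of_comp_iff _ h1).1 h2

section

variable {r : ℕ} {F E LF LE : X.Modules} {Ψ : F ⟶ E} {φ : Phi r F LF} {ψ : Phi r E LE} {γ : LF ⟶ LE}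

theorem app_wed (hγ : ∀ (U : X.affineOpens) (s : Sec LF U.1), ψ U (appS γ U.1 s) =
      exteriorPower.map r (appS Ψ U.1) (φ U s)) (U : X.affineOpens) (b : Fin r → Sec F U.1) :
    appS γ U.1 (wed φ U b) = wed ψ U (fun j => appS Ψ U.1 (b j)) := by
  apply (ψ U).injective
  rw [hγ]
  unfold wed
  rw [LinearEquiv.apply_symm_apply, LinearEquiv.apply_symm_apply, exteriorPower.map_apply_ιMulti]
  rfl

/-- If `γ` maps the wedge of the local basis `b` to a generator, then `Ψ` maps `b` to a local basis. -/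
theorem isLocBasis_of_gen (hψ : PhiComp ψ)
    (hγ : ∀ (U : X.affineOpens) (s : Sec LF U.1), ψ U (appS γ U.1 s) =
      exteriorPower.map r (appS Ψ U.1) (φ U s)) (U : X.affineOpens)
    {b : Fin r → Sec F U.1} {c : Fin r → Sec E U.1} (hc : IsLocBasis c)
    (h : K875.PowSec.IsGen (appS γ U.1 (wed φ U b))) : IsLocBasis (fun j => appS Ψ U.1 (b j)) := by
  rw [app_wed hγ] at h
  exact isLocBasis_of_wed ψ hψ U hc _ h

/-- If `Ψ` maps the local basis `b` to a local basis, then `γ` maps the wedge to a generator. -/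
theorem isGen_of_basis (hψ : PhiComp ψ)
    (hγ : ∀ (U : X.affineOpens) (s : Sec LF U.1), ψ U (appS γ U.1 s) =
      exteriorPower.map r (appS Ψ U.1) (φ U s)) (U : X.affineOpens)
    {b : Fin r → Sec F U.1} (h : IsLocBasis (fun j => appS Ψ U.1 (b j))) :
    K875.PowSec.IsGen (appS γ U.1 (wed φ U b)) := by
  rw [app_wed hγ]
  exact isGen_top ψ hψ h

/-- If the determinant of `Ψ` is an isomorphism, so is `Ψ`. -/
theorem isIso_of_det (hF : FlatMod.IsFinLocFreeOfRank r F) (hE : FlatMod.IsFinLocFreeOfRank r E)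
    (hφ : PhiComp φ) (hψ : PhiComp ψ)
    (hγ : ∀ (U : X.affineOpens) (s : Sec LF U.1), ψ U (appS γ U.1 s) =
      exteriorPower.map r (appS Ψ U.1) (φ U s)) [IsIso γ] : IsIso Ψ := by
  refine isIso_of_locBases (κ := Fin r) Ψ fun x => ?_
  obtain ⟨W, _, b, hxW, hb⟩ := exists_locBasis_near hF x (W := ⊤) trivial
  obtain ⟨W', hW', c, hxW', hc⟩ := exists_locBasis_near hE x hxW
  obtain ⟨U, hU, hxU, hUW⟩ := Opens.isBasis_iff_nbhd.mp X.isBasis_affineOpens hxW'
  refine ⟨U, _, hxU, hb.restrict (hUW.trans hW'), ?_⟩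
  have h1 : K875.PowSec.IsGen (wed φ ⟨U, hU⟩ (fun j => res F (hUW.trans hW') (b j))) :=
    isGen_top φ hφ (U := ⟨U, hU⟩) (hb.restrict (hUW.trans hW'))
  exact isLocBasis_of_gen (φ := φ) hψ hγ ⟨U, hU⟩ (hc.restrict hUW) (h1.of_iso (asIso γ))

/-- If `g^*Ψ` is an isomorphism, then `γ` maps some generator near `g y` to a generator. -/
theorem exists_gen_of_pull {Y : Scheme.{u}} (g : Y ⟶ X) (hF : FlatMod.IsFinLocFreeOfRank r F)
    (hE : FlatMod.IsFinLocFreeOfRank r E) (hφ : PhiComp φ) (hψ : PhiComp ψ)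
    (hγ : ∀ (U : X.affineOpens) (s : Sec LF U.1), ψ U (appS γ U.1 s) =
      exteriorPower.map r (appS Ψ U.1) (φ U s))
    [IsIso ((Scheme.Modules.pullback g).map Ψ)] (y : Y) :
    ∃ (U : X.Opens) (s : Sec LF U), g y ∈ U ∧ K875.PowSec.IsGen s ∧ K875.PowSec.IsGen (appS γ U s) := by
  obtain ⟨W, _, b, hxW, hb⟩ := exists_locBasis_near hF (g y) (W := ⊤) trivial
  have h1 := isLocBasis_psec g F (le_refl (g ⁻¹ᵁ W)) hb
  have h2 : IsLocBasis (fun j => psec g E (le_refl (g ⁻¹ᵁ W)) (appS Ψ W (b j))) := by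
    have h3 := h1.of_iso (asIso ((Scheme.Modules.pullback g).map Ψ))
    refine (congrArg IsLocBasis (funext fun j => ?_)).mp h3
    exact K792.TautPull.map_psec g Ψ (le_refl (g ⁻¹ᵁ W)) (b j)
  obtain ⟨W', hW', hy, h4⟩ := exists_near_of_pull hE _ g (le_refl (g ⁻¹ᵁ W)) h2 y hxW
  obtain ⟨U, hU, hxU, hUW⟩ := Opens.isBasis_iff_nbhd.mp X.isBasis_affineOpens hy
  have h5 : IsLocBasis (fun j => appS Ψ U (res F (hUW.trans hW') (b j))) := by
    have h6 := h4.restrict hUW
    refine (congrArg IsLocBasis (funext fun j => ?_)).mp h6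
    rw [res_res, appS_res]
  exact ⟨U, wed φ ⟨U, hU⟩ (fun j => res F (hUW.trans hW') (b j)), hxU,
    isGen_top φ hφ (U := ⟨U, hU⟩) (hb.restrict (hUW.trans hW')), isGen_of_basis (φ := φ) hψ hγ ⟨U, hU⟩ h5⟩

end

end K945.DetMap
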