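import Mathlib.RingTheory.AlgebraicIndependent.TranscendenceBasis
import Mathlib.Algebra.MvPolynomial.Funext
import Groth.Agent.Ega4B.DimFT

/-!
# Polynomial conditions for a section to vanish somewhere

`exists_poly`: `A` a domain over the field `k`, `M` a `c × N` matrix over `A` which contains the identity matrix, and
`trdeg_k A < c`.  Then there is a nonzero polynomial `P` in `N` variables over `k` which vanishes on all vectors
`v ∈ k^N` for which `M v` vanishes at some point of `Spec A`.
-/

set_option autoImplicit false

universe u w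

open MvPolynomial

namespace K945.GenPoly

theorem exists_poly (k : Type u) [Field k] (A : Type u) [CommRing A] [IsDomain A] [Algebra k A] {c N : ℕ}
    (hdim : Algebra.trdeg k A < (c : Cardinal.{u})) (M : Matrix (Fin c) (Fin N) A) (σ : Fin c → Fin N)
    (hσ : Function.Injective σ) (hM : ∀ i j, M i (σ j) = if i = j then 1 else 0) :
    ∃ P : MvPolynomial (Fin N) k, P ≠ 0 ∧ ∀ (K : Type u) [Field K] (φ : A →+* K) (v : Fin N → k),
      (∀ i, ∑ j, φ (M i j) * φ (algebraMap k A (v j)) = 0) → MvPolynomial.eval v P = 0 := by
  classical
  have hc : c ≠ 0 := by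
    rintro rfl
    exact absurd hdim (not_lt.2 (by simp))
  have : NeZero c := ⟨hc⟩
  have : Nonempty (Fin c) := ⟨0⟩
  let T : Set (Fin N) := (Set.range σ)ᶜ
  let B := MvPolynomial T A
  let im : Fin N → B := fun j => if h : j ∈ T then X ⟨j, h⟩ else
    - ∑ l : T, C (M (Function.invFun σ j) l.1) * X l
  let ψ : MvPolynomial (Fin N) k →ₐ[k] B := aeval im
  have hnot : ¬ Function.Injective ψ := by
    intro hinj
    have h1 : Algebra.trdeg k (MvPolynomial (Fin N) k) = N := by
      rw [MvPolynomial.trdeg_of_isDomain]
      simp
    have h2 : Algebra.trdeg k B = Algebra.trdeg k A + (Fintype.card T : ℕ) := by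
      have h3 := _root_.trdeg_add_eq k A (A := B)
      rw [← h3]
      have h4 : Algebra.trdeg A B = (Fintype.card T : ℕ) := by
        change Algebra.trdeg A (MvPolynomial T A) = _
        rw [MvPolynomial.trdeg_of_isDomain]
        simp
      rw [h4]
    have h3 : Algebra.trdeg k (MvPolynomial (Fin N) k) ≤ Algebra.trdeg k B := _root_.trdeg_le_of_injective ψ hinj
    have hcard : Fintype.card T + c = N := by
      have h5 : Fintype.card T = Fintype.card (Fin N) - Fintype.card (Set.range σ) := by
        rw [← Fintype.card_compl_set]
      have h6 : Fintype.card (Set.range σ) = c := by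
        rw [Set.card_range_of_injective hσ, Fintype.card_fin]
      have h7 : c ≤ N := by
        have := Fintype.card_le_of_injective σ hσ
        simpa using this
      rw [h5, h6, Fintype.card_fin]
      omega
    rw [h1, h2] at h3
    have h8 : Algebra.trdeg k A + (Fintype.card T : ℕ) < (N : Cardinal.{u}) := by
      have h9 : Algebra.trdeg k A < Cardinal.aleph0 := hdim.trans (Cardinal.natCast_lt_aleph0 (n := c))
      obtain ⟨t, ht⟩ := Cardinal.lt_aleph0.1 h9
      rw [ht] at hdim ⊢
      have h10 : t < c := by exact_mod_cast hdim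
      have : t + Fintype.card T < N := by omega
      exact_mod_cast this
    exact absurd h3 (not_le.2 h8)
  have hker : ∃ P : MvPolynomial (Fin N) k, P ≠ 0 ∧ ψ P = 0 := by
    by_contra hcon
    push Not at hcon
    apply hnot
    rw [injective_iff_map_eq_zero]
    intro P hP
    by_contra h0
    exact hcon P h0 hP
  obtain ⟨P, hP0, hP⟩ := hker
  refine ⟨P, hP0, fun K _ φ v hv => ?_⟩
  let ε : B →+* K := eval₂Hom φ (fun l : T => φ (algebraMap k A (v l.1)))
  have h1 : ∀ j, ε (im j) = φ (algebraMap k A (v j)) := by
    intro j
    by_cases hj : j ∈ T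
    · simp only [im, dif_pos hj]
      exact eval₂Hom_X' _ _ _
    · simp only [im, dif_neg hj]
      have hj' : j ∈ Set.range σ := by
        by_contra h
        exact hj h
      obtain ⟨i, rfl⟩ := hj'
      rw [Function.leftInverse_invFun hσ i]
      have h2 := hv i
      have h3 : ε (-∑ l : T, C (M i l.1) * X l) = - ∑ l : T, φ (M i l.1) * φ (algebraMap k A (v l.1)) := by
        rw [map_neg, map_sum]
        congr 1
        refine Finset.sum_congr rfl fun l _ => ?_
        rw [map_mul]
        exact congrArg₂ (· * ·) (eval₂Hom_C _ _ _) (eval₂Hom_X' _ _ _)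
      rw [h3]
      have h4 : ∑ j, φ (M i j) * φ (algebraMap k A (v j)) =
          ∑ l : T, φ (M i l.1) * φ (algebraMap k A (v l.1)) +
            ∑ l : (Set.range σ), φ (M i l.1) * φ (algebraMap k A (v l.1)) := by
        have h5 := Fintype.sum_subtype_add_sum_subtype (fun j => j ∈ T)
          (fun j => φ (M i j) * φ (algebraMap k A (v j)))
        rw [← h5]
        congr 1
        refine Fintype.sum_equiv (Equiv.subtypeEquivRight fun j => ?_) _ _ (fun j => rfl)
        simp [T]
      have h6 : ∑ l : (Set.range σ), φ (M i l.1) * φ (algebraMap k A (v l.1)) =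
          φ (algebraMap k A (v (σ i))) := by
        have h7 := Fintype.sum_equiv (Equiv.ofInjective σ hσ)
          (fun l => φ (M i (σ l)) * φ (algebraMap k A (v (σ l))))
          (fun l : (Set.range σ) => φ (M i l.1) * φ (algebraMap k A (v l.1))) (fun l => rfl)
        rw [← h7, Finset.sum_eq_single i]
        · rw [hM]
          simp
        · intro l _ hl
          rw [hM, if_neg (Ne.symm hl)]
          simp
        · simp
      rw [h4, h6] at h2
      linear_combination -h2
  have h2 : ε (ψ P) = φ (algebraMap k A (eval v P)) := by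
    have h3 : (ε.comp ψ.toRingHom) = ((φ.comp (algebraMap k A)).comp (eval v)) := by
      refine MvPolynomial.ringHom_ext (fun a => ?_) (fun j => ?_)
      · simp only [RingHom.comp_apply, AlgHom.toRingHom_eq_coe, RingHom.coe_coe, ψ, algHom_C, eval_C]
        change ε (algebraMap k (MvPolynomial T A) a) = _
        rw [IsScalarTower.algebraMap_apply k A (MvPolynomial T A)]
        exact eval₂Hom_C _ _ _
      · simp only [RingHom.comp_apply, AlgHom.toRingHom_eq_coe, RingHom.coe_coe, ψ, aeval_X, eval_X]
        exact h1 j
    exact congrArg (fun f : MvPolynomial (Fin N) k →+* K => f P) h3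
  rw [hP, map_zero] at h2
  have h3 : Function.Injective (φ.comp (algebraMap k A)) := RingHom.injective _
  exact h3 (by rw [map_zero]; exact h2.symm)

/-- Over an infinite field a nonzero polynomial has a nonzero value. -/
theorem exists_eval_ne_zero (k : Type u) [Field k] [Infinite k] {N : ℕ} (P : MvPolynomial (Fin N) k) (hP : P ≠ 0) :
    ∃ v : Fin N → k, eval v P ≠ 0 := by
  by_contra h
  push Not at h
  exact hP (MvPolynomial.funext fun v => by rw [h v, map_zero])

/-- The transcendence degree of a finitely generated domain is bounded by its dimension. -/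
theorem trdeg_lt (k : Type u) [Field k] (A : Type u) [CommRing A] [IsDomain A] [Algebra k A]
    [Algebra.FiniteType k A] (c : ℕ) (h : ringKrullDim A < (c : WithBot ℕ∞)) :
    Algebra.trdeg k A < (c : Cardinal.{u}) := by
  obtain ⟨n, hn, hd⟩ := Groth.Agent.Ega4B.DimFT.exists_dim k A
  rw [hd] at h
  rw [hn]
  have : n < c := by exact_mod_cast h
  exact_mod_cast this

end K945.GenPoly
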